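import Cfsg.Agent.Lib.Zsigmondy

/-!
# The full primitive part of `q ^ e - 1` is unbounded (helper38, for the project S5734 of helper192)

* `fullPart_unbounded` : `∀ e K, 3 ≤ e → 1 ≤ K`, for large `q` there is a prime `u` with `q` of order `e` modulo `u` and
  `(q ^ e - 1)_u ∤ K`;
* `fullPart_uniform`, `fullPart_neg`, `fullPart_neg_uniform` : uniform in `e ≤ D`, and for `-q`.
-/

set_option autoImplicit false

namespace Cfsg.Agent.H38.Dp

open Polynomial Cfsg.Agent.Lib.Zsigmondy

/-- The prime divisors of `Φ_n(a)`, `n ≥ 3`: `a` has order `n`, or `r ∣ n` and `r` divides exactly once. -/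
theorem prime_dvd_cyclotomic {a n : ℕ} (ha : 2 ≤ a) (hn : 3 ≤ n) {r : ℕ} (hr : r.Prime)
    (hrN : r ∣ ((cyclotomic n ℤ).eval (a : ℤ)).natAbs) :
    orderOf (a : ZMod r) = n ∨ (r ∣ n ∧ (((cyclotomic n ℤ).eval (a : ℤ)).natAbs).factorization r ≤ 1) := by
  classical
  set N : ℕ := ((cyclotomic n ℤ).eval (a : ℤ)).natAbs with hN
  have hNgt : a - 1 < N := sub_one_lt_natAbs_cyclotomic_eval (by omega) (by omega)
  have hN2 : 2 ≤ N := by omega
  have := Fact.mk hr
  obtain ⟨k, m, hrm, hnk⟩ := Nat.exists_eq_pow_mul_and_not_dvd (n := n) (by omega) r hr.ne_one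
  have hroot : (cyclotomic (r ^ k * m) (ZMod r)).IsRoot (a : ZMod r) := by
    rw [← hnk]
    have h1 : (((cyclotomic n ℤ).eval (a : ℤ) : ℤ) : ZMod r) = 0 := by
      rw [ZMod.intCast_zmod_eq_zero_iff_dvd]
      exact Int.natCast_dvd.2 hrN
    rw [IsRoot.def, ← map_cyclotomic_int n (ZMod r)]
    have h3 : (a : ZMod r) = (Int.castRingHom (ZMod r)) (a : ℤ) := by simp
    rw [h3, eval_map_apply]
    simpa using h1
  have : NeZero (m : ZMod r) := ⟨fun h => hrm ((ZMod.natCast_eq_zero_iff m r).1 h)⟩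
  rw [isRoot_cyclotomic_prime_pow_mul_iff_of_charP] at hroot
  have hord : orderOf (a : ZMod r) = m := hroot.eq_orderOf.symm
  have hm0 : 0 < m := Nat.pos_of_ne_zero (by rintro rfl; exact hrm (dvd_zero r))
  cases k with
  | zero =>
    left
    rw [hord, hnk]; simp
  | succ k =>
    right
    refine ⟨hnk ▸ (dvd_pow_self r (Nat.succ_ne_zero k)).mul_right m, ?_⟩
    have hmr : m ∣ r - 1 := by
      rw [← hord]
      apply orderOf_dvd_pred hr
      intro hra
      have h0 : (a : ZMod r) = 0 := (ZMod.natCast_eq_zero_iff a r).2 hra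
      have := hroot.pow_eq_one
      rw [h0, zero_pow hm0.ne'] at this
      exact zero_ne_one this
    have hNval : ((cyclotomic n ℤ).eval (a : ℤ)) = (N : ℤ) := by
      rw [hN]
      refine (Int.natAbs_of_nonneg ?_).symm
      exact cyclotomic_nonneg n (by exact_mod_cast (by omega : 1 ≤ a))
    rcases Nat.lt_or_ge 2 r with hr2 | hr2
    swap
    · -- the case `r = 2`
      obtain rfl : r = 2 := le_antisymm hr2 hr.two_le
      have hm1 : m = 1 := Nat.dvd_one.1 (by simpa using hmr)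
      subst hm1
      have hev : ((cyclotomic n ℤ).eval (a : ℤ)) = (a : ℤ) ^ 2 ^ k + 1 := by
        have := eval_cyclotomic_pow Nat.prime_two 1 k (a : ℤ)
        rw [show n = 1 * 2 ^ (k + 1) by rw [hnk]; ring, this]
        simp [cyclotomic_two]
      have hNa : N = a ^ 2 ^ k + 1 := by
        have : (N : ℤ) = (a : ℤ) ^ 2 ^ k + 1 := by rw [← hNval, hev]
        exact_mod_cast this
      cases k with
      | zero =>
        rw [hnk] at hn
        norm_num at hn
      | succ k =>
        have hsq : N = (a ^ 2 ^ k) ^ 2 + 1 := by rw [hNa, ← pow_mul, pow_succ]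
        have h4 : ¬ 4 ∣ N := by
          rw [hsq]
          intro h
          have h5 : ((a ^ 2 ^ k) ^ 2 + 1) % 4 = 0 := Nat.mod_eq_zero_of_dvd h
          have h6 : (a ^ 2 ^ k) % 4 < 4 := Nat.mod_lt _ (by norm_num)
          rw [Nat.add_mod, Nat.pow_mod] at h5
          interval_cases (a ^ 2 ^ k) % 4 <;> simp at h5
        by_contra h
        push Not at h
        apply h4
        calc 4 = 2 ^ 2 := by norm_num
          _ ∣ 2 ^ N.factorization 2 := pow_dvd_pow 2 h
          _ ∣ N := Nat.ordProj_dvd N 2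
    · -- `r` odd
      have hodd : Odd r := hr.odd_of_ne_two (by omega)
      have hdvd : ((a : ℤ) ^ (r ^ k * m) - 1) * (N : ℤ) ∣ (a : ℤ) ^ n - 1 := by
        have hprop : r ^ k * m ∈ n.properDivisors := by
          rw [Nat.mem_properDivisors]
          refine ⟨⟨r, by rw [hnk]; ring⟩, ?_⟩
          rw [hnk]
          have : r ^ k * m < r ^ k * m * r := by
            have : 0 < r ^ k * m := Nat.mul_pos (pow_pos hr.pos k) hm0
            nlinarith
          calc r ^ k * m < r ^ k * m * r := this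
            _ = r ^ (k + 1) * m := by ring
        have := X_pow_sub_one_mul_cyclotomic_dvd_X_pow_sub_one_of_dvd ℤ hprop
        have h' := eval_dvd (x := (a : ℤ)) this
        simpa [hNval] using h'
      set c : ℕ := a ^ (r ^ k * m) with hc
      have hc1 : 1 < c := Nat.one_lt_pow (Nat.mul_pos (pow_pos hr.pos k) hm0).ne' (by omega)
      have hcr : a ^ n = c ^ r := by rw [hc, ← pow_mul, hnk]; congr 1; ring
      have hdvd' : (c - 1) * N ∣ c ^ r - 1 := by
        have h1 : (((c - 1) * N : ℕ) : ℤ) ∣ ((c ^ r - 1 : ℕ) : ℤ) := by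
          rw [Nat.cast_mul, Nat.cast_sub hc1.le, Nat.cast_sub (Nat.one_le_pow _ _ (by omega)), ← hcr]
          push_cast
          simpa [hc] using hdvd
        exact_mod_cast h1
      have hrc : r ∣ c - 1 := by
        rw [hc, dvd_pow_sub_one_iff (by omega), hord]
        exact Dvd.intro_left _ rfl
      have hrc' : ¬ r ∣ c := by
        intro h
        have : r ∣ 1 := by
          have h1 : c = (c - 1) + 1 := by omega
          rw [h1] at h
          exact (Nat.dvd_add_right hrc).1 h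
        exact hr.one_lt.ne' (Nat.dvd_one.1 this)
      have := Fact.mk hr
      have hlte : padicValNat r (c ^ r - 1 ^ r) = padicValNat r (c - 1) + padicValNat r r :=
        padicValNat.pow_sub_pow hodd hc1 hrc hrc' hr.ne_zero
      rw [one_pow, padicValNat_self] at hlte
      have hle : padicValNat r ((c - 1) * N) ≤ padicValNat r (c ^ r - 1) := by
        apply (padicValNat_dvd_iff_le (p := r) ?_).1
        · exact (pow_padicValNat_dvd).trans hdvd'
        · have : 1 < c ^ r := Nat.one_lt_pow hr.ne_zero hc1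
          omega
      rw [padicValNat.mul (by omega) (by omega), hlte] at hle
      have hle1 : padicValNat r N ≤ 1 := by omega
      rw [Nat.factorization_def N hr]
      exact hle1

/-- The primitive part is not bounded. -/
theorem exists_not_dvd {q e K : ℕ} (he : 3 ≤ e) (hK : 1 ≤ K) (hq : e * K < q) :
    ∃ u : ℕ, u.Prime ∧ orderOf (q : ZMod u) = e ∧ ¬ u ^ padicValNat u (q ^ e - 1) ∣ K := by
  classical
  by_contra hcon
  push Not at hcon
  have hq2 : 2 ≤ q := by
    have : 3 * 1 ≤ e * K := Nat.mul_le_mul he hK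
    omega
  set N : ℕ := ((cyclotomic e ℤ).eval (q : ℤ)).natAbs with hN
  have hNgt : q - 1 < N := sub_one_lt_natAbs_cyclotomic_eval (by omega) (by omega)
  have hN0 : N ≠ 0 := by omega
  have hpow0 : q ^ e - 1 ≠ 0 := by
    have : 1 < q ^ e := Nat.one_lt_pow (by omega) (by omega)
    omega
  have hNdvd : N ∣ q ^ e - 1 := by
    have h1 : cyclotomic e ℤ ∣ X ^ e - 1 := cyclotomic.dvd_X_pow_sub_one e ℤ
    have h2 := eval_dvd (x := (q : ℤ)) h1
    rw [eval_sub, eval_pow, eval_X, eval_one] at h2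
    have h3 : ((q ^ e - 1 : ℕ) : ℤ) = (q : ℤ) ^ e - 1 := by
      rw [Nat.cast_sub (Nat.one_le_pow _ _ (by omega))]
      push_cast
      rfl
    rw [← h3] at h2
    have h4 := Int.natAbs_dvd_natAbs.2 h2
    rwa [Int.natAbs_natCast] at h4
  have hdvd : N ∣ e * K := by
    rw [← Nat.factorization_prime_le_iff_dvd hN0 (by positivity)]
    intro r hr
    by_cases hrN : r ∣ N
    · rw [Nat.factorization_mul (by omega) (by omega), Finsupp.add_apply]
      rcases prime_dvd_cyclotomic hq2 he hr hrN with h1 | ⟨h1, h2⟩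
      · have h2 := hcon r hr h1
        have h3 : N.factorization r ≤ (q ^ e - 1).factorization r :=
          (Nat.factorization_le_iff_dvd hN0 hpow0).2 hNdvd r
        have := Fact.mk hr
        rw [← Nat.factorization_def _ hr] at h2
        have h4 := (hr.pow_dvd_iff_le_factorization (by omega)).1 h2
        omega
      · have h3 : 1 ≤ e.factorization r := (hr.dvd_iff_one_le_factorization (by omega)).1 h1
        exact h2.trans (h3.trans (Nat.le_add_right _ _))
    · rw [Nat.factorization_eq_zero_of_not_dvd hrN]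
      exact Nat.zero_le _
  have := Nat.le_of_dvd (by positivity) hdvd
  omega

/-- **The full primitive part of `q ^ e - 1`.** -/
theorem fullPart_unbounded (e K : ℕ) (he : 3 ≤ e) (hK : 1 ≤ K) :
    ∃ Q : ℕ, ∀ q : ℕ, Q ≤ q → ∃ u : ℕ, u.Prime ∧ orderOf (q : ZMod u) = e ∧
      ¬ u ^ padicValNat u (q ^ e - 1) ∣ K :=
  ⟨e * K + 1, fun _ hq => exists_not_dvd he hK hq⟩

/-- **The full primitive part of `q ^ e - 1`, uniform version.** -/
theorem fullPart_uniform (D K : ℕ) (hK : 1 ≤ K) :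
    ∃ Q : ℕ, ∀ q : ℕ, Q ≤ q → ∀ e, 3 ≤ e → e ≤ D → ∃ u : ℕ, u.Prime ∧ orderOf (q : ZMod u) = e ∧
      ¬ u ^ padicValNat u (q ^ e - 1) ∣ K :=
  ⟨D * K + 1, fun _ hq _ he heD => exists_not_dvd he hK
    (lt_of_le_of_lt (Nat.mul_le_mul_right K heD) hq)⟩

/-! ### `-q` -/

/-- `-q` has order `e` if `q` has order `2 e`, `e` odd -/
theorem orderOf_neg_odd {u q e : ℕ} (hu : u.Prime) (he : Odd e) (hq : orderOf (q : ZMod u) = 2 * e) :
    orderOf (-(q : ZMod u)) = e := by
  have := Fact.mk hu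
  have he0 : 0 < e := he.pos
  have h1 : (q : ZMod u) ^ e = -1 := by
    have h2 : ((q : ZMod u) ^ e) * ((q : ZMod u) ^ e) = 1 := by
      rw [← pow_add, ← two_mul, ← hq, pow_orderOf_eq_one]
    rcases mul_self_eq_one_iff.1 h2 with h3 | h3
    · exfalso
      have h4 := Nat.le_of_dvd he0 (orderOf_dvd_of_pow_eq_one h3)
      omega
    · exact h3
  have h2 : (-(q : ZMod u)) ^ e = 1 := by rw [he.neg_pow, h1, neg_neg]
  apply Nat.dvd_antisymm (orderOf_dvd_of_pow_eq_one h2)
  -- `q ^ (2 d) = 1`, `d` the order of `-q`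
  have h3 : (q : ZMod u) ^ (2 * orderOf (-(q : ZMod u))) = 1 := by
    have h4 : (-(q : ZMod u)) ^ (2 * orderOf (-(q : ZMod u))) = 1 := by
      rw [mul_comm, pow_mul, pow_orderOf_eq_one, one_pow]
    rwa [(even_two_mul _).neg_pow] at h4
  have h4 := orderOf_dvd_of_pow_eq_one h3
  rw [hq] at h4
  exact (Nat.mul_dvd_mul_iff_left (by norm_num)).1 h4

/-- `-q` has order `2 e` if `q` has order `e`, `e` odd, `u ≠ 2` -/
theorem orderOf_neg_of_odd {u q e : ℕ} (hu : u.Prime) (hu2 : u ≠ 2) (he : Odd e) (hq : orderOf (q : ZMod u) = e) :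
    orderOf (-(q : ZMod u)) = 2 * e := by
  have := Fact.mk hu
  have he0 : 0 < e := he.pos
  have hne : (-1 : ZMod u) ≠ 1 := by
    intro h
    have h1 : ((2 : ℕ) : ZMod u) = 0 := by
      push_cast
      linear_combination -h
    have h2 := (ZMod.natCast_eq_zero_iff 2 u).1 h1
    rcases (Nat.dvd_prime Nat.prime_two).1 h2 with h3 | h3
    · exact hu.one_lt.ne' h3
    · exact hu2 h3
  have hd : orderOf (-(q : ZMod u)) ∣ 2 * e := by
    apply orderOf_dvd_of_pow_eq_one
    rw [(even_two_mul _).neg_pow, mul_comm, pow_mul, ← hq, pow_orderOf_eq_one, one_pow]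
  apply Nat.dvd_antisymm hd
  set d := orderOf (-(q : ZMod u)) with hdd
  have hdpow : (-(q : ZMod u)) ^ d = 1 := pow_orderOf_eq_one _
  -- `d` is even
  have hev : Even d := by
    by_contra hodd
    rw [Nat.not_even_iff_odd] at hodd
    have h1 : (q : ZMod u) ^ d = -1 := by
      rw [hodd.neg_pow] at hdpow
      linear_combination -hdpow
    have h2 : ((q : ZMod u) ^ d) ^ e = 1 := by rw [← pow_mul, mul_comm, pow_mul, ← hq, pow_orderOf_eq_one, one_pow]
    rw [h1, he.neg_one_pow] at h2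
    exact hne h2
  have h1 : (q : ZMod u) ^ d = 1 := by rwa [hev.neg_pow] at hdpow
  have h2 : e ∣ d := by rw [← hq]; exact orderOf_dvd_of_pow_eq_one h1
  exact Nat.Coprime.mul_dvd_of_dvd_of_dvd (Nat.coprime_two_left.2 he) hev.two_dvd h2

/-- `-q` has order `e` if `q` has order `e`, `4 ∣ e` -/
theorem orderOf_neg_four {u q e : ℕ} (hu : u.Prime) (he0 : 0 < e) (he : 4 ∣ e) (hq : orderOf (q : ZMod u) = e) :
    orderOf (-(q : ZMod u)) = e := by
  have := Fact.mk hu
  have hev : Even e := even_iff_two_dvd.2 (Nat.dvd_trans (by norm_num) he)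
  have hd : orderOf (-(q : ZMod u)) ∣ e := by
    apply orderOf_dvd_of_pow_eq_one
    rw [hev.neg_pow, ← hq, pow_orderOf_eq_one]
  apply Nat.dvd_antisymm hd
  set d := orderOf (-(q : ZMod u)) with hdd
  have hdpow : (-(q : ZMod u)) ^ d = 1 := pow_orderOf_eq_one _
  -- `q ^ (2 d) = 1`, so `e ∣ 2 d` and `d` is even
  have h3 : (q : ZMod u) ^ (2 * d) = 1 := by
    have h4 : (-(q : ZMod u)) ^ (2 * d) = 1 := by
      rw [mul_comm, pow_mul, hdpow, one_pow]
    rwa [(even_two_mul _).neg_pow] at h4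
  have h4 : e ∣ 2 * d := by rw [← hq]; exact orderOf_dvd_of_pow_eq_one h3
  have h5 : Even d := by
    obtain ⟨c, hc⟩ := he
    obtain ⟨b, hb⟩ := h4
    exact ⟨c * b, by rw [hc] at hb; nlinarith⟩
  rw [h5.neg_pow] at hdpow
  rw [← hq]
  exact orderOf_dvd_of_pow_eq_one hdpow

theorem pow_padic_dvd_mono {u a b : ℕ} (hu : u.Prime) (hb : b ≠ 0) (hab : a ∣ b) :
    u ^ padicValNat u a ∣ u ^ padicValNat u b := by
  have := Fact.mk hu
  apply pow_dvd_pow
  rcases Nat.eq_zero_or_pos a with h0 | h0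
  · subst h0
    exact absurd (Nat.eq_zero_of_zero_dvd hab) hb
  · exact (padicValNat_dvd_iff_le hb).1 ((pow_padicValNat_dvd).trans hab)

/-- The primitive part for `-q` is not bounded. -/
theorem exists_not_dvd_neg {q e K : ℕ} (he : 3 ≤ e) (hK : 1 ≤ K) (hq : 2 * e * K < q) :
    ∃ u : ℕ, u.Prime ∧ orderOf (-(q : ZMod u)) = e ∧ ¬ u ^ padicValNat u (q ^ (2 * e) - 1) ∣ K := by
  have hq2 : 2 ≤ q := by
    have : 2 * 3 * 1 ≤ 2 * e * K := Nat.mul_le_mul (Nat.mul_le_mul_left _ he) hK
    omega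
  have key : ∀ e', e' ∣ 2 * e → 3 ≤ e' → (∀ u : ℕ, u.Prime → orderOf (q : ZMod u) = e' → orderOf (-(q : ZMod u)) = e) →
      ∃ u : ℕ, u.Prime ∧ orderOf (-(q : ZMod u)) = e ∧ ¬ u ^ padicValNat u (q ^ (2 * e) - 1) ∣ K := by
    intro e' h1 h3 h
    have hle : e' ≤ 2 * e := Nat.le_of_dvd (by omega) h1
    obtain ⟨u, hu, hord, hnd⟩ := exists_not_dvd (q := q) h3 hK
      (lt_of_le_of_lt (Nat.mul_le_mul_right K hle) hq)
    refine ⟨u, hu, h u hu hord, fun hd => hnd ((pow_padic_dvd_mono hu ?_ ?_).trans hd)⟩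
    · have : 1 < q ^ (2 * e) := Nat.one_lt_pow (by omega) (by omega)
      omega
    · obtain ⟨c, hc⟩ := h1
      rw [hc, pow_mul]
      have := Nat.sub_dvd_pow_sub_pow (q ^ e') 1 c
      rwa [one_pow] at this
  rcases Nat.even_or_odd e with hev | hodd
  · obtain ⟨d, hd⟩ := hev
    rcases Nat.even_or_odd d with hev' | hodd'
    · -- `4 ∣ e`
      obtain ⟨c, hc⟩ := hev'
      refine key e (Dvd.intro_left 2 rfl) he fun u hu h => orderOf_neg_four hu (by omega) ⟨c, by omega⟩ h
    · -- `e = 2 d`, `d` odd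
      have hd3 : 3 ≤ d := by
        obtain ⟨c, hc⟩ := hodd'
        omega
      refine key d ⟨4, by omega⟩ hd3 fun u hu h => ?_
      have hu2 : u ≠ 2 := by
        rintro rfl
        have h2 : orderOf (q : ZMod 2) ≤ 1 := by
          have h5 : ∀ x : ZMod 2, x ^ 2 = x := by decide
          by_cases hx : (q : ZMod 2) = 1
          · rw [hx, orderOf_one]
          · have hx0 : (q : ZMod 2) = 0 := by
              have : ∀ x : ZMod 2, x ≠ 1 → x = 0 := by decide
              exact this _ hx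
            rw [hx0]
            have h6 : orderOf (0 : ZMod 2) = 0 := by
              rw [orderOf_eq_zero_iff']
              intro m hm
              rw [zero_pow hm.ne']
              decide
            omega
        omega
      rw [orderOf_neg_of_odd hu hu2 hodd' h]
      omega
  · exact key (2 * e) dvd_rfl (by omega) fun u hu h => orderOf_neg_odd hu hodd h

/-- **The full primitive part for `-q`.** -/
theorem fullPart_neg (e K : ℕ) (he : 3 ≤ e) (hK : 1 ≤ K) :
    ∃ Q : ℕ, ∀ q : ℕ, Q ≤ q → ∃ u : ℕ, u.Prime ∧ orderOf (-(q : ZMod u)) = e ∧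
      ¬ u ^ padicValNat u (q ^ (2 * e) - 1) ∣ K :=
  ⟨2 * e * K + 1, fun _ hq => exists_not_dvd_neg he hK hq⟩

/-- **The full primitive part for `-q`, uniform version.** -/
theorem fullPart_neg_uniform (D K : ℕ) (hK : 1 ≤ K) :
    ∃ Q : ℕ, ∀ q : ℕ, Q ≤ q → ∀ e, 3 ≤ e → e ≤ D → ∃ u : ℕ, u.Prime ∧ orderOf (-(q : ZMod u)) = e ∧
      ¬ u ^ padicValNat u (q ^ (2 * e) - 1) ∣ K :=
  ⟨2 * D * K + 1, fun _ hq _ he heD => exists_not_dvd_neg he hK
    (lt_of_le_of_lt (Nat.mul_le_mul_right K (Nat.mul_le_mul_left 2 heD)) hq)⟩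

end Cfsg.Agent.H38.Dp
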