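import Mathlib

/-!
# Permutations without short cycles (helper38, for the project S5734 of helper192)

* `Long k σ` : all cycles of `σ` have length `> k`;
* `glue s τ` : the permutation with the cycle `(s 0, s 1, ..., s (j - 1))` acting as `τ` on the other points;
* `factorial_le` : `n ! ≤ (2 k + 1) #{σ | Long k σ}` for `k < n`;
* `noInv_swap` : if `Long k σ` and `σ ^ k` maps neither `a` to `b` nor `b` to `a`, then `σ * swap a b` has no invariant
  set of size `k`.
-/

set_option autoImplicit false

namespace Cfsg.Agent.H38.Dp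

open Equiv Finset

/-- all cycles of `σ` have length `> k` -/
def Long {α : Type*} (k : ℕ) (σ : Perm α) : Prop := ∀ x : α, ∀ i : ℕ, 0 < i → i ≤ k → (σ ^ i) x ≠ x

theorem finRotate_pow {m : ℕ} (i : ℕ) (x : Fin (m + 1)) :
    (((finRotate (m + 1)) ^ i) x).val = (x.val + i) % (m + 1) := by
  induction i with
  | zero => rw [pow_zero, Perm.one_apply, add_zero, Nat.mod_eq_of_lt x.2]
  | succ i ih =>
    rw [pow_succ', Perm.mul_apply, finRotate_apply, Fin.val_add, ih, Fin.val_one', ← Nat.add_mod, add_assoc]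

theorem finRotate_pow_eq {j i : ℕ} (x : Fin j) : ((finRotate j) ^ i) x = x ↔ j ∣ i := by
  obtain ⟨m, rfl⟩ : ∃ m, j = m + 1 := ⟨j - 1, by have := x.2; omega⟩
  rw [Fin.ext_iff, finRotate_pow]
  constructor
  · intro h
    have h1 : (x.val + i) ≡ x.val + 0 [MOD (m + 1)] := by
      rw [Nat.ModEq, h, add_zero, Nat.mod_eq_of_lt x.2]
    exact (Nat.modEq_zero_iff_dvd).1 (Nat.ModEq.add_left_cancel' _ h1)
  · rintro ⟨c, rfl⟩
    rw [Nat.add_mul_mod_self_left, Nat.mod_eq_of_lt x.2]

theorem finRotate_pow_ne {j i : ℕ} (hi : 0 < i) (hij : i < j) (x : Fin j) : ((finRotate j) ^ i) x ≠ x := by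
  rw [Ne, finRotate_pow_eq]
  intro h
  exact absurd (Nat.le_of_dvd hi h) (by omega)

theorem finRotate_pow_zero {j : ℕ} (hj : 0 < j) (i : ℕ) (hi : i < j) :
    ((finRotate j) ^ i) ⟨0, hj⟩ = ⟨i, hi⟩ := by
  obtain ⟨m, rfl⟩ : ∃ m, j = m + 1 := ⟨j - 1, by omega⟩
  rw [Fin.ext_iff, finRotate_pow]
  simp only
  rw [zero_add, Nat.mod_eq_of_lt hi]

section glue

variable {n j : ℕ}

theorem card_compl_range (s : Fin j ↪ Fin n) : Nat.card ((Set.range s)ᶜ : Set (Fin n)) = n - j := by
  classical
  rw [Nat.card_eq_fintype_card, Fintype.card_compl_set, Fintype.card_fin, Set.card_range_of_injective s.injective,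
    Fintype.card_fin]

/-- a bijection extending `s` -/
noncomputable def chart (s : Fin j ↪ Fin n) : Fin j ⊕ Fin (n - j) ≃ Fin n := by
  classical
  exact (Equiv.sumCongr (Equiv.ofInjective s s.injective)
    ((finCongr (card_compl_range s).symm).trans (Finite.equivFin _).symm)).trans (Equiv.Set.sumCompl (Set.range s))

theorem chart_inl (s : Fin j ↪ Fin n) (i : Fin j) : chart s (Sum.inl i) = s i := by
  simp [chart]

/-- the permutation with the cycle `s` and acting as `τ` on the other points -/
noncomputable def glue (s : Fin j ↪ Fin n) (τ : Perm (Fin (n - j))) : Perm (Fin n) :=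
  (chart s).permCongr (Perm.sumCongr (finRotate j) τ)

theorem sumCongr_pow {α β : Type*} (σ : Perm α) (τ : Perm β) (i : ℕ) :
    Perm.sumCongr σ τ ^ i = Perm.sumCongr (σ ^ i) (τ ^ i) := by
  induction i with
  | zero => simp
  | succ i ih => rw [pow_succ, ih, Perm.sumCongr_mul, ← pow_succ, ← pow_succ]

theorem glue_pow (s : Fin j ↪ Fin n) (τ : Perm (Fin (n - j))) (i : ℕ) :
    glue s τ ^ i = (chart s).permCongr (Perm.sumCongr (finRotate j ^ i) (τ ^ i)) := by
  have h1 : glue s τ = (chart s).permCongrHom (Perm.sumCongr (finRotate j) τ) := rfl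
  rw [h1, ← map_pow, sumCongr_pow]
  rfl

theorem glue_pow_inl (s : Fin j ↪ Fin n) (τ : Perm (Fin (n - j))) (i : ℕ) (x : Fin j) :
    (glue s τ ^ i) (s x) = s ((finRotate j ^ i) x) := by
  rw [glue_pow, Equiv.permCongr_apply, ← chart_inl, Equiv.symm_apply_apply, Perm.sumCongr_apply, Sum.map_inl,
    chart_inl]

theorem glue_pow_inr (s : Fin j ↪ Fin n) (τ : Perm (Fin (n - j))) (i : ℕ) (x : Fin (n - j)) :
    (glue s τ ^ i) (chart s (Sum.inr x)) = chart s (Sum.inr ((τ ^ i) x)) := by
  rw [glue_pow, Equiv.permCongr_apply, Equiv.symm_apply_apply, Perm.sumCongr_apply, Sum.map_inr]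

theorem glue_pow_zero (s : Fin j ↪ Fin n) (τ : Perm (Fin (n - j))) (hj : 0 < j) {i : ℕ} (hi : i < j) :
    (glue s τ ^ i) (s ⟨0, hj⟩) = s ⟨i, hi⟩ := by
  rw [glue_pow_inl, finRotate_pow_zero hj i hi]

theorem glue_long {k : ℕ} (hkj : k < j) (s : Fin j ↪ Fin n) {τ : Perm (Fin (n - j))} (hτ : Long k τ) :
    Long k (glue s τ) := by
  intro x i hi hik
  obtain ⟨z, rfl⟩ := (chart s).surjective x
  cases z with
  | inl y =>
    rw [chart_inl, glue_pow_inl]
    exact fun h => finRotate_pow_ne hi (by omega) y (s.injective h)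
  | inr y =>
    rw [glue_pow_inr]
    intro h
    have h1 := (chart s).injective h
    rw [Sum.inr.injEq] at h1
    exact hτ y i hi hik h1

/-- `j` is the period of `s 0` -/
theorem glue_period (s : Fin j ↪ Fin n) (τ : Perm (Fin (n - j))) (hj : 0 < j) (i : ℕ) :
    (glue s τ ^ i) (s ⟨0, hj⟩) = s ⟨0, hj⟩ ↔ j ∣ i := by
  rw [glue_pow_inl, s.injective.eq_iff, finRotate_pow_eq]

theorem glue_inj {s s' : Fin j ↪ Fin n} {τ τ' : Perm (Fin (n - j))} (hj : 0 < j)
    (h0 : s ⟨0, hj⟩ = s' ⟨0, hj⟩) (h : glue s τ = glue s' τ') : s = s' ∧ τ = τ' := by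
  have hs : s = s' := by
    ext i
    have h1 := glue_pow_zero s τ hj i.2
    have h2 := glue_pow_zero s' τ' hj i.2
    rw [h, h0, h2] at h1
    exact congrArg Fin.val h1.symm
  subst hs
  refine ⟨rfl, ?_⟩
  have h1 := (chart s).permCongr.injective h
  ext x
  have h2 := congrArg (fun f : Perm _ => f (Sum.inr x)) h1
  simp only [Perm.sumCongr_apply, Sum.map_inr, Sum.inr.injEq] at h2
  rw [h2]

theorem sign_glue (s : Fin j ↪ Fin n) (τ : Perm (Fin (n - j))) :
    Perm.sign (glue s τ) = (-1) ^ (j - 1) * Perm.sign τ := by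
  rw [glue, Perm.sign_permCongr, Perm.sign_sumCongr, sign_finRotate]

end glue

/-- the number of permutations of `n` points without cycles of length `≤ k` -/
noncomputable def numLong (k n : ℕ) : ℕ := Nat.card {σ : Perm (Fin n) // Long k σ}

theorem numLong_zero (k : ℕ) : numLong k 0 = 1 := by
  unfold numLong
  have : Unique {σ : Perm (Fin 0) // Long k σ} :=
    ⟨⟨⟨1, fun x => x.elim0⟩⟩, fun a => Subtype.ext (Subsingleton.elim _ _)⟩
  exact Nat.card_unique

/-- **The recursion.** -/
theorem sum_le (k n : ℕ) :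
    ∑ j ∈ Finset.Ioc k n, n.descFactorial j * numLong k (n - j) ≤ n * numLong k n := by
  classical
  let A : Type := Σ j : Finset.Ioc k n, (Fin (j : ℕ) ↪ Fin n) × {τ : Perm (Fin (n - (j : ℕ))) // Long k τ}
  let B : Type := Fin n × {σ : Perm (Fin n) // Long k σ}
  have hpos : ∀ j : Finset.Ioc k n, 0 < (j : ℕ) := fun j => by
    have := (Finset.mem_Ioc.1 j.2).1
    omega
  let Φ : A → B := fun a => (a.2.1 ⟨0, hpos a.1⟩, ⟨glue a.2.1 a.2.2.1, glue_long (Finset.mem_Ioc.1 a.1.2).1 _ a.2.2.2⟩)
  have hΦ : Function.Injective Φ := by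
    rintro ⟨⟨j, hj⟩, s, τ, hτ⟩ ⟨⟨j', hj'⟩, s', τ', hτ'⟩ h
    have h1 : s ⟨0, hpos ⟨j, hj⟩⟩ = s' ⟨0, hpos ⟨j', hj'⟩⟩ := congrArg Prod.fst h
    have h2 : glue s τ = glue s' τ' := congrArg (fun b : B => (b.2 : Perm (Fin n))) h
    have hjj : j = j' := by
      apply Nat.dvd_antisymm
      · rw [← glue_period s τ (hpos ⟨j, hj⟩) j', h2, h1, glue_period]
      · rw [← glue_period s' τ' (hpos ⟨j', hj'⟩) j, ← h2, ← h1, glue_period]
    subst hjj
    obtain ⟨h3, h4⟩ := glue_inj (hpos ⟨j, hj⟩) h1 h2
    subst h3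
    subst h4
    rfl
  have h1 := Nat.card_le_card_of_injective Φ hΦ
  have hA : Nat.card A = ∑ j ∈ Finset.Ioc k n, n.descFactorial j * numLong k (n - j) := by
    rw [Nat.card_sigma, ← Finset.sum_coe_sort (Finset.Ioc k n) (fun j => n.descFactorial j * numLong k (n - j))]
    refine Finset.sum_congr rfl fun j _ => ?_
    rw [Nat.card_prod, Nat.card_eq_fintype_card (α := (Fin (j : ℕ) ↪ Fin n)), Fintype.card_embedding_eq,
      Fintype.card_fin, Fintype.card_fin, numLong]
  have hB : Nat.card B = n * numLong k n := by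
    rw [Nat.card_prod, Nat.card_fin, numLong]
  rwa [hA, hB] at h1

/-- **The proportion of permutations without cycles of length `≤ k` is at least `1 / (2 k + 1)`.** -/
theorem factorial_le (k n : ℕ) (hkn : k < n) : n.factorial ≤ (2 * k + 1) * numLong k n := by
  induction n using Nat.strong_induction_on with
  | _ n ih =>
    have h1 := Nat.mul_le_mul_left (2 * k + 1) (sum_le k n)
    rw [Finset.mul_sum] at h1
    -- the term `j = n`
    have hn : ∀ j ∈ Finset.Ioc k n, j + k < n ∨ j = n →
        n.factorial * (if j = n then 2 * k + 1 else 1) ≤ (2 * k + 1) * (n.descFactorial j * numLong k (n - j)) := by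
      intro j hj hcase
      rw [Finset.mem_Ioc] at hj
      by_cases hjn : j = n
      · subst hjn
        rw [if_pos rfl, Nat.sub_self, numLong_zero, mul_one, Nat.descFactorial_self, mul_comm]
      · have hlt : j + k < n := hcase.resolve_right hjn
        rw [if_neg hjn, mul_one]
        have h2 := ih (n - j) (by omega) (by omega)
        have h3 := Nat.factorial_mul_descFactorial (n := n) (k := j) (by omega)
        calc n.factorial = (n - j).factorial * n.descFactorial j := h3.symm
          _ ≤ ((2 * k + 1) * numLong k (n - j)) * n.descFactorial j := Nat.mul_le_mul_right _ h2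
          _ = _ := by ring
    have h2 : n.factorial * n ≤ ∑ j ∈ Finset.Ioc k n, (2 * k + 1) * (n.descFactorial j * numLong k (n - j)) := by
      have hsub : (Finset.Ioo k (n - k)) ∪ {n} ⊆ Finset.Ioc k n := by
        intro j hj
        rw [Finset.mem_union, Finset.mem_Ioo, Finset.mem_singleton] at hj
        rw [Finset.mem_Ioc]
        omega
      have hdis : Disjoint (Finset.Ioo k (n - k)) {n} := by
        rw [Finset.disjoint_singleton_right, Finset.mem_Ioo]
        omega
      calc n.factorial * n ≤ n.factorial * (∑ j ∈ (Finset.Ioo k (n - k)) ∪ {n}, if j = n then 2 * k + 1 else 1) := by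
            apply Nat.mul_le_mul_left
            rw [Finset.sum_union hdis, Finset.sum_singleton, if_pos rfl]
            have h4 : ∑ j ∈ Finset.Ioo k (n - k), (if j = n then 2 * k + 1 else 1) =
                ∑ j ∈ Finset.Ioo k (n - k), 1 := by
              refine Finset.sum_congr rfl fun j hj => ?_
              rw [Finset.mem_Ioo] at hj
              rw [if_neg (by omega)]
            rw [h4, Finset.sum_const, Nat.card_Ioo, smul_eq_mul, mul_one]
            omega
        _ = ∑ j ∈ (Finset.Ioo k (n - k)) ∪ {n}, n.factorial * (if j = n then 2 * k + 1 else 1) := by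
            rw [Finset.mul_sum]
        _ ≤ ∑ j ∈ (Finset.Ioo k (n - k)) ∪ {n}, (2 * k + 1) * (n.descFactorial j * numLong k (n - j)) := by
            refine Finset.sum_le_sum fun j hj => hn j (hsub hj) ?_
            rw [Finset.mem_union, Finset.mem_Ioo, Finset.mem_singleton] at hj
            omega
        _ ≤ _ := Finset.sum_le_sum_of_subset hsub
    have h3 : n * n.factorial ≤ n * ((2 * k + 1) * numLong k n) := by
      calc n * n.factorial = n.factorial * n := mul_comm _ _
        _ ≤ _ := h2
        _ ≤ (2 * k + 1) * (n * numLong k n) := h1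
        _ = _ := by ring
    exact Nat.le_of_mul_le_mul_left h3 (by omega)

/-! ### Invariant sets -/

/-- no nonempty invariant set of size `≤ k` -/
theorem Long.not_inv {α : Type*} [DecidableEq α] {k : ℕ} {σ : Perm α} (h : Long k σ) {S : Finset α}
    (hS : S.Nonempty) (hk : S.card ≤ k) : ¬ ∀ z ∈ S, σ z ∈ S := by
  intro hinv
  obtain ⟨x, hx⟩ := hS
  have hpow : ∀ i : ℕ, (σ ^ i) x ∈ S := by
    intro i
    induction i with
    | zero => exact hx
    | succ i ih => rw [pow_succ', Perm.mul_apply]; exact hinv _ ih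
  have h1 : (Finset.range (k + 1)).card ≤ S.card := by
    refine Finset.card_le_card_of_injOn (fun i => (σ ^ i) x) (fun i _ => hpow i) ?_
    have key : ∀ i j : ℕ, i < j → j ≤ k → (σ ^ i) x = (σ ^ j) x → False := by
      intro i j hij hj he
      apply h x (j - i) (by omega) (by omega)
      have h2 : (σ ^ i) ((σ ^ (j - i)) x) = (σ ^ i) x := by
        rw [← Perm.mul_apply, ← pow_add, he]
        congr 2
        omega
      exact (σ ^ i).injective h2
    intro i hi j hj he
    rw [Finset.coe_range, Set.mem_Iio] at hi hj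
    rcases lt_trichotomy i j with h3 | h3 | h3
    · exact (key i j h3 (by omega) he).elim
    · exact h3
    · exact (key j i h3 (by omega) he.symm).elim
  rw [Finset.card_range] at h1
  omega

/-- the half of `noInv_swap` -/
theorem noInv_aux {α : Type*} [DecidableEq α] {k : ℕ} {σ : Perm α} (h : Long k σ) {a b : α}
    (h2 : (σ ^ k) b ≠ a) {S : Finset α} (hS : S.card = k) (ha : a ∈ S) (hb : b ∉ S)
    (h3 : ∀ z ∈ S, z ≠ a → σ z ∈ S) (h4 : σ b ∈ S) : False := by
  -- the path from `b` reaches `a`
  have hex : ∃ t, 1 ≤ t ∧ t ≤ k ∧ (σ ^ t) b = a := by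
    by_contra hcon
    push Not at hcon
    have hpow : ∀ i : ℕ, i ≤ k → (σ ^ (i + 1)) b ∈ S := by
      intro i
      induction i with
      | zero => intro _; rw [zero_add, pow_one]; exact h4
      | succ i ih =>
        intro hi
        rw [pow_succ', Perm.mul_apply]
        exact h3 _ (ih (by omega)) (hcon (i + 1) (by omega) hi)
    have h1 : (Finset.range (k + 1)).card ≤ S.card := by
      refine Finset.card_le_card_of_injOn (fun i => (σ ^ (i + 1)) b) (fun i hi => ?_) ?_
      · rw [Finset.coe_range, Set.mem_Iio] at hi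
        exact hpow i (by omega)
      · have key : ∀ i j : ℕ, i < j → j ≤ k → (σ ^ (i + 1)) b = (σ ^ (j + 1)) b → False := by
          intro i j hij hj he
          apply h b (j - i) (by omega) (by omega)
          have h2 : (σ ^ (i + 1)) ((σ ^ (j - i)) b) = (σ ^ (i + 1)) b := by
            rw [← Perm.mul_apply, ← pow_add, he]
            congr 2
            omega
          exact (σ ^ (i + 1)).injective h2
        intro i hi j hj he
        rw [Finset.coe_range, Set.mem_Iio] at hi hj
        rcases lt_trichotomy i j with h3 | h3 | h3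
        · exact (key i j h3 (by omega) he).elim
        · exact h3
        · exact (key j i h3 (by omega) he.symm).elim
    rw [Finset.card_range] at h1
    omega
  classical
  obtain ⟨t, ⟨ht1, htk, hta⟩, hmin⟩ := Nat.findX hex
  have htlt : t < k := by
    rcases htk.eq_or_lt with h1 | h1
    · rw [h1] at hta
      exact absurd hta h2
    · exact h1
  have hpS : ∀ i, 1 ≤ i → i ≤ t → (σ ^ i) b ∈ S := by
    intro i
    induction i with
    | zero => intro h0; omega
    | succ i ih =>
      intro _ hi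
      rcases Nat.eq_zero_or_pos i with h0 | h0
      · subst h0
        rw [zero_add, pow_one]
        exact h4
      · rw [pow_succ', Perm.mul_apply]
        refine h3 _ (ih h0 (by omega)) fun he => ?_
        exact hmin i (by omega) ⟨h0, by omega, he⟩
  let Q : Finset α := (Finset.Icc 1 t).image fun i => (σ ^ i) b
  have hQS : Q ⊆ S := by
    intro z hz
    obtain ⟨i, hi, rfl⟩ := Finset.mem_image.1 hz
    rw [Finset.mem_Icc] at hi
    exact hpS i hi.1 hi.2
  have hQc : Q.card ≤ t := by
    refine Finset.card_image_le.trans ?_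
    rw [Nat.card_Icc]
    omega
  have hne : (S \ Q).Nonempty := by
    rw [← Finset.card_pos, Finset.card_sdiff_of_subset hQS]
    omega
  refine h.not_inv hne ((Finset.card_le_card Finset.sdiff_subset).trans hS.le) fun z hz => ?_
  rw [Finset.mem_sdiff] at hz ⊢
  have haQ : a ∈ Q := Finset.mem_image.2 ⟨t, Finset.mem_Icc.2 ⟨ht1, le_refl t⟩, hta⟩
  refine ⟨h3 z hz.1 fun he => hz.2 (he ▸ haQ), fun hzQ => ?_⟩
  obtain ⟨i, hi, hie⟩ := Finset.mem_image.1 hzQ
  rw [Finset.mem_Icc] at hi
  obtain ⟨i', rfl⟩ : ∃ i', i = i' + 1 := ⟨i - 1, by omega⟩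
  rw [pow_succ', Perm.mul_apply] at hie
  have hz' : z = (σ ^ i') b := (σ.injective hie).symm
  rcases Nat.eq_zero_or_pos i' with h0 | h0
  · subst h0
    rw [pow_zero, Perm.one_apply] at hz'
    exact hb (hz' ▸ hz.1)
  · exact hz.2 (hz' ▸ Finset.mem_image.2 ⟨i', Finset.mem_Icc.2 ⟨h0, by omega⟩, rfl⟩)

/-- **No invariant `k`-sets after multiplication by a transposition.** -/
theorem noInv_swap {α : Type*} [DecidableEq α] {k : ℕ} (hk : 1 ≤ k) {σ : Perm α} (h : Long k σ) {a b : α}
    (h1 : (σ ^ k) a ≠ b) (h2 : (σ ^ k) b ≠ a) {S : Finset α} (hS : S.card = k) :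
    ¬ ∀ z ∈ S, (σ * swap a b) z ∈ S := by
  intro hinv
  have hne : S.Nonempty := by rw [← Finset.card_pos]; omega
  by_cases ha : a ∈ S
  · by_cases hb : b ∈ S
    · refine h.not_inv hne hS.le fun z hz => ?_
      have h3 : swap a b z ∈ S := by
        rw [swap_apply_def]
        split_ifs
        · exact hb
        · exact ha
        · exact hz
      have h4 := hinv _ h3
      rwa [Perm.mul_apply, swap_apply_self] at h4
    · refine noInv_aux h h2 hS ha hb (fun z hz hza => ?_) ?_
      · have h3 := hinv z hz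
        rwa [Perm.mul_apply, swap_apply_of_ne_of_ne hza (fun he => hb (by rwa [he] at hz))] at h3
      · have h3 := hinv a ha
        rwa [Perm.mul_apply, swap_apply_left] at h3
  · by_cases hb : b ∈ S
    · refine noInv_aux h h1 hS hb ha (fun z hz hzb => ?_) ?_
      · have h3 := hinv z hz
        rwa [Perm.mul_apply, swap_apply_of_ne_of_ne (fun he => ha (by rwa [he] at hz)) hzb] at h3
      · have h3 := hinv b hb
        rwa [Perm.mul_apply, swap_apply_right] at h3
    · refine h.not_inv hne hS.le fun z hz => ?_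
      have h3 := hinv z hz
      rwa [Perm.mul_apply, swap_apply_of_ne_of_ne (fun he => ha (by rwa [he] at hz))
        (fun he => hb (by rwa [he] at hz))] at h3

/-- no invariant set of size `k` -/
def NoInv {α : Type*} (k : ℕ) (σ : Perm α) : Prop := ∀ S : Finset α, S.card = k → ¬ ∀ z ∈ S, σ z ∈ S

/-- **Even permutations without invariant `k`-sets.** -/
theorem numLong_le {n k : ℕ} (hn : 4 ≤ n) (hk : 1 ≤ k) :
    numLong k n ≤ 4 * Nat.card {σ : alternatingGroup (Fin n) // NoInv k (σ : Perm (Fin n))} := by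
  classical
  -- the points `0, 1, 2, 3`
  let pt : Fin 4 → Fin n := Fin.castLE hn
  have hpt : Function.Injective pt := Fin.castLE_injective hn
  -- the choice
  have hch : ∀ σ : {σ : Perm (Fin n) // Long k σ}, ∃ y : Fin 4,
      (σ.1 ^ k) (pt 0) ≠ pt y ∧ (σ.1 ^ k) (pt y) ≠ pt 0 ∧ σ.1 * swap (pt 0) (pt y) ∈ alternatingGroup (Fin n) := by
    rintro ⟨σ, hσ⟩
    by_cases hs : σ ∈ alternatingGroup (Fin n)
    · refine ⟨0, hσ _ k hk (le_refl k), hσ _ k hk (le_refl k), ?_⟩
      rwa [swap_self, ← Perm.one_def, mul_one]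
    · have hs1 : Perm.sign σ = -1 := by
        rcases Int.units_eq_one_or (Perm.sign σ) with h | h
        · exact absurd (Perm.mem_alternatingGroup.2 h) hs
        · exact h
      have hodd : ∀ y : Fin 4, y ≠ 0 → σ * swap (pt 0) (pt y) ∈ alternatingGroup (Fin n) := by
        intro y hy
        rw [Perm.mem_alternatingGroup, Perm.sign_mul, hs1, Perm.sign_swap (fun h => hy (hpt h).symm)]
        rfl
      by_contra hcon
      push Not at hcon
      have hb : ∀ y : Fin 4, y ≠ 0 → (σ ^ k) (pt 0) = pt y ∨ (σ ^ k) (pt y) = pt 0 := by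
        intro y hy
        by_contra h
        push Not at h
        exact hcon y h.1 h.2 (hodd y hy)
      have e1 : ∀ y y' : Fin 4, (σ ^ k) (pt 0) = pt y → (σ ^ k) (pt 0) = pt y' → y = y' := fun y y' h h' =>
        hpt (h.symm.trans h')
      have e2 : ∀ y y' : Fin 4, (σ ^ k) (pt y) = pt 0 → (σ ^ k) (pt y') = pt 0 → y = y' := fun y y' h h' =>
        hpt ((σ ^ k).injective (h.trans h'.symm))
      rcases hb 1 (by decide) with h1 | h1 <;> rcases hb 2 (by decide) with h2 | h2 <;>
        rcases hb 3 (by decide) with h3 | h3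
      · exact absurd (e1 _ _ h1 h2) (by decide)
      · exact absurd (e1 _ _ h1 h2) (by decide)
      · exact absurd (e1 _ _ h1 h3) (by decide)
      · exact absurd (e2 _ _ h2 h3) (by decide)
      · exact absurd (e1 _ _ h2 h3) (by decide)
      · exact absurd (e2 _ _ h1 h3) (by decide)
      · exact absurd (e2 _ _ h1 h2) (by decide)
      · exact absurd (e2 _ _ h1 h2) (by decide)
  choose y hy1 hy2 hy3 using hch
  let Φ : {σ : Perm (Fin n) // Long k σ} → Fin 4 × {σ : alternatingGroup (Fin n) // NoInv k (σ : Perm (Fin n))} :=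
    fun σ => (y σ, ⟨⟨σ.1 * swap (pt 0) (pt (y σ)), hy3 σ⟩,
      fun S hS => noInv_swap hk σ.2 (hy1 σ) (hy2 σ) hS⟩)
  have hΦ : Function.Injective Φ := by
    intro σ σ' h
    have h1 : y σ = y σ' := congrArg Prod.fst h
    have h2 : σ.1 * swap (pt 0) (pt (y σ)) = σ'.1 * swap (pt 0) (pt (y σ')) :=
      congrArg (fun b : Fin 4 × {σ : alternatingGroup (Fin n) // NoInv k (σ : Perm (Fin n))} =>
        ((b.2.1 : alternatingGroup (Fin n)) : Perm (Fin n))) h
    rw [h1] at h2
    exact Subtype.ext (mul_right_cancel h2)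
  have h1 := Nat.card_le_card_of_injective Φ hΦ
  rwa [Nat.card_prod, Nat.card_fin] at h1

end Cfsg.Agent.H38.Dp
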