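import Mathlib

/-!
# The product of the primes between `n / 2` and `n - 3` (helper38, for the project S5734 of helper192)

* `centralBinom_le` : `C(2 m, m) ≤ (2 m) ^ √(2 m) * 4 ^ (2 m / 3) * ∏_{m < p ≤ 2 m} p`;
* `exists_prod_ge` : for large `n` the product of the primes `p` with `n < 2 p`, `p + 3 ≤ n` is at least `exp (n / 10)`.
-/

set_option autoImplicit false

namespace Cfsg.Agent.H38.Dp

open Nat Finset

theorem centralBinom_le (n : ℕ) (n_large : 2 < n) :
    centralBinom n ≤ (2 * n) ^ sqrt (2 * n) * 4 ^ (2 * n / 3) *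
      ∏ p ∈ (Finset.Ioc n (2 * n)).filter Nat.Prime, p := by
  have n_pos : 0 < n := (Nat.zero_le _).trans_lt n_large
  have n2_pos : 1 ≤ 2 * n := mul_pos (zero_lt_two' ℕ) n_pos
  let f x := x ^ n.centralBinom.factorization x
  have hsplit : centralBinom n = (∏ p ∈ Finset.range (2 * n / 3 + 1), f p) *
      ∏ p ∈ (Finset.Ioc n (2 * n)).filter Nat.Prime, f p := by
    rw [← Finset.prod_union]
    · refine (Eq.trans ?_ n.prod_pow_factorization_centralBinom).symm
      apply Finset.prod_subset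
      · intro p hp
        rw [Finset.mem_union, Finset.mem_range, Finset.mem_filter, Finset.mem_Ioc] at hp
        rw [Finset.mem_range]
        omega
      intro x hx h2x
      rw [Finset.mem_range, Nat.lt_succ_iff] at hx
      rw [Finset.mem_union, Finset.mem_range, Finset.mem_filter, Finset.mem_Ioc] at h2x
      push Not at h2x
      obtain ⟨h2x, h3x⟩ := h2x
      dsimp only [f]
      by_cases hxp : x.Prime
      · have h4 : x ≤ n := by
          by_contra h5
          exact h3x ⟨by omega, by omega⟩ hxp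
        rw [factorization_centralBinom_of_two_mul_self_lt_three_mul n_large h4 (by omega), Nat.pow_zero]
      · rw [factorization_eq_zero_of_not_prime n.centralBinom hxp, Nat.pow_zero]
    · rw [Finset.disjoint_left]
      intro p hp hp'
      rw [Finset.mem_range] at hp
      rw [Finset.mem_filter, Finset.mem_Ioc] at hp'
      omega
  rw [hsplit]
  apply mul_le_mul'
  · let S := {p ∈ Finset.range (2 * n / 3 + 1) | Nat.Prime p}
    have : ∏ x ∈ S, f x = ∏ x ∈ Finset.range (2 * n / 3 + 1), f x := by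
      refine Finset.prod_filter_of_ne fun p _ h => ?_
      contrapose h; dsimp only [f]
      rw [factorization_eq_zero_of_not_prime n.centralBinom h, _root_.pow_zero]
    rw [← this, ← Finset.prod_filter_mul_prod_filter_not S (· ≤ sqrt (2 * n))]
    apply mul_le_mul'
    · refine (Finset.prod_le_prod' fun p _ => (?_ : f p ≤ 2 * n)).trans ?_
      · exact pow_factorization_choose_le (mul_pos two_pos n_pos)
      have : (Finset.Icc 1 (sqrt (2 * n))).card = sqrt (2 * n) := by rw [card_Icc, Nat.add_sub_cancel]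
      rw [Finset.prod_const]
      refine pow_right_mono₀ n2_pos ((Finset.card_le_card fun x hx => ?_).trans this.le)
      obtain ⟨h1, h2⟩ := Finset.mem_filter.1 hx
      exact Finset.mem_Icc.mpr ⟨(Finset.mem_filter.1 h1).2.one_lt.le, h2⟩
    · refine le_trans ?_ (primorial_le_four_pow (2 * n / 3))
      refine (Finset.prod_le_prod' fun p hp => (?_ : f p ≤ p)).trans ?_
      · obtain ⟨h1, h2⟩ := Finset.mem_filter.1 hp
        refine (pow_right_mono₀ (Finset.mem_filter.1 h1).2.one_lt.le ?_).trans (pow_one p).le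
        exact Nat.factorization_choose_le_one (sqrt_lt'.mp <| not_le.1 h2)
      refine Finset.prod_le_prod_of_subset_of_one_le' (Finset.filter_subset _ _) ?_
      exact fun p hp _ => (Finset.mem_filter.1 hp).2.one_lt.le
  · refine Finset.prod_le_prod' fun p hp => ?_
    rw [Finset.mem_filter, Finset.mem_Ioc] at hp
    refine (pow_right_mono₀ hp.2.one_lt.le ?_).trans (pow_one p).le
    refine Nat.factorization_choose_le_one ?_
    have h1 : 3 * n ≤ p * p := Nat.mul_le_mul (by omega) (by omega)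
    rw [pow_two]
    omega

/-- the primes `p` with `n < 2 p` and `p + 3 ≤ n` -/
def bigPrimes (n : ℕ) : Finset ℕ := (Finset.range n).filter fun p => p.Prime ∧ n < 2 * p ∧ p + 3 ≤ n

theorem mem_bigPrimes {n p : ℕ} : p ∈ bigPrimes n ↔ p.Prime ∧ n < 2 * p ∧ p + 3 ≤ n := by
  rw [bigPrimes, Finset.mem_filter, Finset.mem_range]
  constructor
  · exact fun h => h.2
  · exact fun h => ⟨by omega, h⟩

theorem prod_Ioc_le {n m : ℕ} (hm : m = (n - 3) / 2) (hn : 20 ≤ n) :
    ∏ p ∈ (Finset.Ioc m (2 * m)).filter Nat.Prime, p ≤ (n * n) * ∏ p ∈ bigPrimes n, p := by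
  have hsub : (Finset.Ioc m (2 * m)).filter Nat.Prime ⊆ ({m + 1, m + 2} : Finset ℕ) ∪ bigPrimes n := by
    intro p hp
    rw [Finset.mem_filter, Finset.mem_Ioc] at hp
    rw [Finset.mem_union, Finset.mem_insert, Finset.mem_singleton, mem_bigPrimes]
    by_cases h : n < 2 * p
    · exact Or.inr ⟨hp.2, h, by omega⟩
    · left
      omega
  calc ∏ p ∈ (Finset.Ioc m (2 * m)).filter Nat.Prime, p ≤ ∏ p ∈ ({m + 1, m + 2} : Finset ℕ) ∪ bigPrimes n, p := by
        refine Finset.prod_le_prod_of_subset_of_one_le' hsub fun p hp _ => ?_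
        rw [Finset.mem_union, Finset.mem_insert, Finset.mem_singleton, mem_bigPrimes] at hp
        rcases hp with (h | h) | h
        · omega
        · omega
        · exact h.1.one_lt.le
    _ ≤ (∏ p ∈ ({m + 1, m + 2} : Finset ℕ), p) * ∏ p ∈ bigPrimes n, p := by
        rw [← Finset.prod_union_inter (s₁ := ({m + 1, m + 2} : Finset ℕ)) (s₂ := bigPrimes n)]
        refine Nat.le_mul_of_pos_right _ (Finset.prod_pos fun p hp => ?_)
        rw [Finset.mem_inter, mem_bigPrimes] at hp
        exact hp.2.1.pos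
    _ ≤ _ := by
        apply Nat.mul_le_mul_right
        rw [Finset.prod_pair (by omega)]
        exact Nat.mul_le_mul (by omega) (by omega)

/-- **The product of the primes between `n / 2` and `n - 3`.** -/
theorem exists_prod_ge : ∃ N : ℕ, 20 ≤ N ∧ ∀ n : ℕ, N ≤ n →
    (n : ℝ) / 10 ≤ Real.log ((∏ p ∈ bigPrimes n, p : ℕ) : ℝ) := by
  have hO := (isLittleO_log_rpow_atTop (r := 1 / 2) (by norm_num)).bound (show (0 : ℝ) < 1 / 100 by norm_num)
  rw [Filter.eventually_atTop] at hO
  obtain ⟨A, hA⟩ := hO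
  refine ⟨max 100 (⌈A⌉₊ + 1), (by norm_num : 20 ≤ 100).trans (le_max_left _ _), fun n hn => ?_⟩
  have hn100 : 100 ≤ n := (le_max_left _ _).trans hn
  have hnA : A ≤ n := by
    have h1 : ⌈A⌉₊ + 1 ≤ n := (le_max_right _ _).trans hn
    exact (Nat.le_ceil A).trans (by exact_mod_cast (by omega : ⌈A⌉₊ ≤ n))
  have hlog := hA (n : ℝ) hnA
  have hn0 : (0 : ℝ) < n := by exact_mod_cast (by omega : 0 < n)
  have hn1 : (1 : ℝ) ≤ n := by exact_mod_cast (by omega : 1 ≤ n)
  rw [Real.norm_of_nonneg (Real.log_nonneg hn1), ← Real.sqrt_eq_rpow, Real.norm_of_nonneg (Real.sqrt_nonneg _)] at hlog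
  set P : ℕ := ∏ p ∈ bigPrimes n, p with hP
  have hPpos : 0 < P := Finset.prod_pos fun p hp => (mem_bigPrimes.1 hp).1.pos
  obtain ⟨m, hm⟩ : ∃ m, m = (n - 3) / 2 := ⟨_, rfl⟩
  have h1 := centralBinom_le m (by omega)
  have h2 := prod_Ioc_le hm (by omega)
  have h3 := Nat.four_pow_lt_mul_centralBinom m (by omega)
  -- `4 ^ m < m * (2 m) ^ √(2 m) * 4 ^ (2 m / 3) * n ^ 2 * P`
  have h4 : 4 ^ m ≤ m * ((2 * m) ^ Nat.sqrt (2 * m) * 4 ^ (2 * m / 3) * ((n * n) * P)) :=
    h3.le.trans (Nat.mul_le_mul_left _ (h1.trans (Nat.mul_le_mul_left _ h2)))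
  have hm0 : (0 : ℝ) < m := by exact_mod_cast (by omega : 0 < m)
  have h5 : (4 : ℝ) ^ m ≤ m * ((2 * m) ^ Nat.sqrt (2 * m) * 4 ^ (2 * m / 3) * ((n * n) * P)) := by exact_mod_cast h4
  have hPr : (0 : ℝ) < P := by exact_mod_cast hPpos
  have h6 := Real.log_le_log (by positivity) h5
  rw [Real.log_pow, Real.log_mul (by positivity) (by positivity), Real.log_mul (by positivity) (by positivity),
    Real.log_mul (by positivity) (by positivity), Real.log_mul (by positivity) (by positivity),
    Real.log_mul (by positivity) (by positivity), Real.log_pow, Real.log_pow] at h6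
  -- bounds
  have hmn : (2 : ℝ) * m ≤ n := by exact_mod_cast (by omega : 2 * m ≤ n)
  have hmn' : (n : ℝ) ≤ 2 * m + 4 := by exact_mod_cast (by omega : n ≤ 2 * m + 4)
  have hlogm : Real.log m ≤ Real.log n := Real.log_le_log hm0 (by linarith)
  have hlog2m : Real.log (2 * m) ≤ Real.log n := Real.log_le_log (by positivity) hmn
  have hlogn : 0 ≤ Real.log n := Real.log_nonneg hn1
  have hsq : ((Nat.sqrt (2 * m) : ℕ) : ℝ) ≤ √n := by
    refine Real.nat_sqrt_le_real_sqrt.trans (Real.sqrt_le_sqrt ?_)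
    push_cast
    exact hmn
  have h7 : ((Nat.sqrt (2 * m) : ℕ) : ℝ) * Real.log (2 * m) ≤ √n * Real.log n := by
    apply mul_le_mul hsq hlog2m _ (Real.sqrt_nonneg _)
    apply Real.log_nonneg
    exact_mod_cast (by omega : 1 ≤ 2 * m)
  have h8 : √(n : ℝ) * Real.log n ≤ n / 100 := by
    calc √(n : ℝ) * Real.log n ≤ √(n : ℝ) * (1 / 100 * √(n : ℝ)) := mul_le_mul_of_nonneg_left hlog (Real.sqrt_nonneg _)
      _ = (√(n : ℝ) * √(n : ℝ)) / 100 := by ring
      _ = n / 100 := by rw [Real.mul_self_sqrt hn0.le]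
  have h9 : √(n : ℝ) ≤ n := by
    rw [Real.sqrt_le_left hn0.le]
    nlinarith
  have h10 : Real.log n ≤ n / 100 := by linarith
  have h11 : (((2 * m / 3 : ℕ) : ℕ) : ℝ) ≤ 2 * m / 3 := by
    have := @Nat.cast_div_le ℝ _ _ _ (2 * m) 3
    push_cast at this ⊢
    exact this
  have hlog4 : (1.38 : ℝ) ≤ Real.log 4 := by
    have h12 : Real.log 4 = 2 * Real.log 2 := by
      rw [show (4 : ℝ) = 2 ^ 2 by norm_num, Real.log_pow]
      norm_num
    have := Real.log_two_gt_d9
    rw [h12]
    linarith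
  have hlog4' : Real.log 4 ≤ 1.4 := by
    have h12 : Real.log 4 = 2 * Real.log 2 := by
      rw [show (4 : ℝ) = 2 ^ 2 by norm_num, Real.log_pow]
      norm_num
    have := Real.log_two_lt_d9
    rw [h12]
    linarith
  have h13 : (((2 * m / 3 : ℕ) : ℕ) : ℝ) * Real.log 4 ≤ (2 * m / 3) * Real.log 4 :=
    mul_le_mul_of_nonneg_right h11 (by linarith)
  have h14 : (m : ℝ) * Real.log 4 - (2 * m / 3) * Real.log 4 ≥ (m / 3) * 1.38 := by
    have : (m : ℝ) * Real.log 4 - (2 * m / 3) * Real.log 4 = (m / 3) * Real.log 4 := by ring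
    rw [this]
    exact mul_le_mul_of_nonneg_left hlog4 (by positivity)
  have hn100' : (100 : ℝ) ≤ n := by exact_mod_cast hn100
  linarith

end Cfsg.Agent.H38.Dp
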